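import Cfsg.Agent.S5212
import Cfsg.Agent.S5076
import Cfsg.Agent.S0949
import Cfsg.Agent.Lib.Transfer.PResidual
import Cfsg.Agent.Lib.Techniques.MetacyclicAut
import Cfsg.Agent.Lib.Core.Cores

/-!
# Metacyclic Sylow 2-subgroups with cyclic quotient of order more than two
-/

set_option autoImplicit false
set_option linter.all false

namespace CfsgLib.OddGated

open Subgroup

variable {G : Type*} [Group G] [Finite G]

theorem isSolvable_of_normal (N : Subgroup G) [N.Normal] (h1 : Group.IsSolvable N)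
    (h2 : Group.IsSolvable (G ⧸ N)) : Group.IsSolvable G :=
  Group.isSolvable_of_ker_le_range N.subtype (QuotientGroup.mk' N) (by simp)



theorem card_range_le_two {D : Type*} [Group D] {C : Type*} [CommGroup C] [IsCyclic C] [Finite C]
    (f : D →* C) (hf : Function.Surjective f) (h : ∀ d : D, f d ^ 2 = 1) : Nat.card C ≤ 2 := by
  obtain ⟨c, hc⟩ := IsCyclic.exists_generator (α := C)
  obtain ⟨d, rfl⟩ := hf c
  rw [← orderOf_eq_card_of_forall_mem_zpowers hc]
  exact Nat.le_of_dvd two_pos (orderOf_dvd_of_pow_eq_one (h d))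

theorem sq_map_dihedral {C : Type*} [CommGroup C] {m : ℕ} (f : DihedralGroup m →* C)
    (d : DihedralGroup m) : f d ^ 2 = 1 := by
  have hsr : ∀ i, f (DihedralGroup.sr i) ^ 2 = 1 := fun i => by
    rw [← map_pow, pow_two, DihedralGroup.sr_mul_self, map_one]
  cases d with
  | r i =>
    have h : f (DihedralGroup.r i) = f (DihedralGroup.sr 0) * f (DihedralGroup.sr i) := by
      rw [← map_mul, DihedralGroup.sr_mul_sr, sub_zero]
    rw [h, mul_pow, hsr, hsr, one_mul]
  | sr i => exact hsr i

theorem sq_map_quaternion {C : Type*} [CommGroup C] {m : ℕ} (hm : Even m)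
    (f : QuaternionGroup m →* C) (d : QuaternionGroup m) : f d ^ 2 = 1 := by
  have ha : ∀ i, f (QuaternionGroup.a i) ^ 2 = 1 := fun i => by
    have h : QuaternionGroup.a i * QuaternionGroup.xa 0 = QuaternionGroup.xa 0 * QuaternionGroup.a (-i) := by
      rw [QuaternionGroup.a_mul_xa, QuaternionGroup.xa_mul_a]; simp
    have h1 := congrArg f h
    rw [map_mul, map_mul, mul_comm] at h1
    have h2 : f (QuaternionGroup.a i) = f (QuaternionGroup.a (-i)) := mul_left_cancel h1
    calc f (QuaternionGroup.a i) ^ 2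
        = f (QuaternionGroup.a i) * f (QuaternionGroup.a (-i)) := by rw [pow_two]; nth_rw 2 [h2]
      _ = 1 := by rw [← map_mul, QuaternionGroup.a_mul_a, add_neg_cancel]; exact map_one f
  cases d with
  | a i => exact ha i
  | xa i =>
    obtain ⟨l, hl⟩ := hm
    have h : QuaternionGroup.xa i * QuaternionGroup.xa i = QuaternionGroup.a (m : ZMod (2 * m)) := by
      rw [QuaternionGroup.xa_mul_xa]; simp
    rw [← map_pow, pow_two, h, show ((m : ℕ) : ZMod (2 * m)) = (l : ZMod (2 * m)) + (l : ZMod (2 * m)) by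
      rw [← Nat.cast_add, ← hl], ← QuaternionGroup.a_mul_a, map_mul, ← pow_two]
    exact ha _

theorem mulAut_pow_eq_one_of_cyclic {Q : Type*} [Group Q] [Finite Q] [IsCyclic Q] (hQ : IsPGroup 2 Q)
    (φ : MulAut Q) (h : (orderOf φ).Coprime 2) : φ = 1 := by
  obtain ⟨a, ha⟩ := IsPGroup.iff_card.1 hQ
  have hd : orderOf φ ∣ Nat.card (MulAut Q) := orderOf_dvd_natCard φ
  rw [IsCyclic.card_mulAut, ha] at hd
  rw [← orderOf_eq_one_iff]
  rcases Nat.eq_zero_or_pos a with rfl | hpos
  · simpa using hd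
  · rw [Nat.totient_prime_pow Nat.prime_two hpos, show (2 : ℕ) - 1 = 1 from rfl, mul_one] at hd
    exact Nat.eq_one_of_dvd_coprimes (h.pow_right _) dvd_rfl hd

/-- No exotic behaviour: the automizers are `2`-groups. -/
theorem complement_of_not_homocyclic (S : Sylow 2 G)
    (h : ∀ Q : Subgroup G, Q ≤ S → ∀ g ∈ normalizer (Q : Set G), (orderOf g).Coprime 2 →
      ∃ φ : MulAut Q, (φ = 1 ∨ ∃ s : G, s ∈ (S : Subgroup G) ∧
        ∀ q : Q, (φ q : G) = s * q * s⁻¹) ∧ ∀ q : Q, (φ q : G) = g * q * g⁻¹) :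
    Cfsg.HasNormalPComplement 2 G := by
  haveI : Fact (Nat.Prime 2) := ⟨Nat.prime_two⟩
  refine (CfsgLib.Transfer.exists_complement_iff S).1 ?_
  rw [CfsgLib.Transfer.exists_complement_iff]
  refine (CfsgLib.Transfer.hasNormalPComplement_iff_centralizes S).2 fun Q hQ g hg hg2 => ?_
  obtain ⟨φ, hφ, hφg⟩ := h Q hQ g hg hg2
  have hone : φ = 1 := by
    rcases hφ with e | ⟨s, hs, hφs⟩
    · exact e
    have hφf : φ = Q.normalizerMonoidHom ⟨g, hg⟩ := MulEquiv.ext fun q => Subtype.ext (hφg q)
    have h1 : orderOf φ ∣ orderOf g := by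
      have h0 := orderOf_map_dvd Q.normalizerMonoidHom (⟨g, hg⟩ : normalizer (Q : Set G))
      rw [← hφf] at h0
      rwa [Subgroup.orderOf_mk] at h0
    obtain ⟨a, ha⟩ := IsPGroup.iff_orderOf.1 S.2 ⟨s, hs⟩
    have h2 : φ ^ (2 ^ a) = 1 := by
      refine MulEquiv.ext fun q => Subtype.ext ?_
      have key : ∀ j : ℕ, ((φ ^ j) q : G) = s ^ j * q * (s ^ j)⁻¹ := by
        intro j
        induction j with
        | zero => simp
        | succ j ih => rw [pow_succ', MulAut.mul_apply, hφs, ih, pow_succ']; group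
      have hsa : s ^ (2 ^ a) = 1 := by
        rw [← ha, Subgroup.orderOf_mk, pow_orderOf_eq_one]
      rw [key, hsa]; simp
    rw [← orderOf_eq_one_iff]
    exact Nat.eq_one_of_dvd_coprimes ((hg2.coprime_dvd_left h1).pow_right a) dvd_rfl
      (orderOf_dvd_of_pow_eq_one h2)
  refine mem_centralizer_iff.2 fun q hq => ?_
  have := hφg ⟨q, hq⟩
  rw [hone] at this
  simp only [MulAut.one_apply] at this
  calc q * g = (g * q * g⁻¹) * g := by rw [← this]
    _ = g * q := by group

theorem complement_of_cyclic (S : Sylow 2 G) (hc : IsCyclic (S : Subgroup G)) :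
    Cfsg.HasNormalPComplement 2 G := by
  haveI : Fact (Nat.Prime 2) := ⟨Nat.prime_two⟩
  refine complement_of_not_homocyclic S fun Q hQ g hg hg2 => ?_
  haveI := hc
  haveI : IsCyclic Q := isCyclic_of_injective (Subgroup.inclusion hQ) (Subgroup.inclusion_injective hQ)
  refine ⟨Q.normalizerMonoidHom ⟨g, hg⟩, Or.inl (mulAut_pow_eq_one_of_cyclic (S.2.to_le hQ) _ ?_),
    fun q => rfl⟩
  refine Nat.Coprime.coprime_dvd_left ?_ hg2
  have h0 := orderOf_map_dvd Q.normalizerMonoidHom (⟨g, hg⟩ : normalizer (Q : Set G))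
  rwa [Subgroup.orderOf_mk] at h0

theorem isSolvable_of_complement (hodd : ∀ N : Subgroup G, Odd (Nat.card N) → Group.IsSolvable N)
    (h : Cfsg.HasNormalPComplement 2 G) : Group.IsSolvable G := by
  haveI : Fact (Nat.Prime 2) := ⟨Nat.prime_two⟩
  obtain ⟨N, hN, hc, hq⟩ := CfsgLib.Transfer.hasNormalPComplement_iff_exists.1 h
  haveI := hN
  haveI : Group.IsNilpotent (G ⧸ N) := hq.isNilpotent
  exact isSolvable_of_normal N (hodd N (Nat.coprime_two_right.1 hc)) inferInstance

theorem isSolvable_homocyclic (hodd : ∀ N : Subgroup G, Odd (Nat.card N) → Group.IsSolvable N)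
    (S : Sylow 2 G) (m : ℕ) (hm : 2 ≤ m)
    (e : (S : Subgroup G) ≃* Multiplicative (ZMod (2 ^ m) × ZMod (2 ^ m))) : Group.IsSolvable G := by
  haveI : Fact (Nat.Prime 2) := ⟨Nat.prime_two⟩
  set O := Cfsg.pPrimeCore 2 G
  have hOc := CfsgLib.Core.coprime_card_pPrimeCore 2 G
  set π := QuotientGroup.mk' O
  have hinj : Function.Injective (π.subgroupMap (S : Subgroup G)) := by
    rw [injective_iff_map_eq_one]
    intro a ha
    have h1 : (a : G) ∈ O := (QuotientGroup.eq_one_iff _).1 (congrArg Subtype.val ha)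
    obtain ⟨k, hk⟩ := IsPGroup.iff_orderOf.1 S.2 a
    rw [← orderOf_eq_one_iff, hk]
    exact Nat.eq_one_of_dvd_coprimes (hOc.pow_right k)
      (hk ▸ Subgroup.orderOf_coe a ▸ Subgroup.orderOf_dvd_natCard O h1) dvd_rfl
  let T : Sylow 2 (G ⧸ O) := S.mapSurjective (f := π) (QuotientGroup.mk'_surjective O)
  let eT : (S : Subgroup G) ≃* (T : Subgroup (G ⧸ O)) :=
    MulEquiv.ofBijective (π.subgroupMap (S : Subgroup G)) ⟨hinj, π.subgroupMap_surjective _⟩
  obtain ⟨hN, -, hidx⟩ := Cfsg.Agent.S0949.result T m hm (eT.symm.trans e) (fun N hN ho => by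
    haveI := hN
    have := CfsgLib.Core.le_pPrimeCore (p := 2) (N := N) (Nat.coprime_two_right.2 ho)
    rw [CfsgLib.Core.pPrimeCore_quotient_pPrimeCore, le_bot_iff] at this
    exact this)
  haveI := hN
  haveI : Group.IsNilpotent (T : Subgroup (G ⧸ O)) := T.2.isNilpotent
  refine isSolvable_of_normal O (hodd O (Nat.coprime_two_right.1 hOc)) ?_
  refine isSolvable_of_normal (T : Subgroup (G ⧸ O)) inferInstance ?_
  rw [Subgroup.index_eq_card] at hidx
  have hcyc : IsCyclic ((G ⧸ O) ⧸ (T : Subgroup (G ⧸ O))) := by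
    rcases hidx with h | h
    · haveI := (Nat.card_eq_one_iff_unique.1 h).1
      exact inferInstance
    · haveI : Fact (Nat.Prime 3) := ⟨Nat.prime_three⟩
      exact isCyclic_of_prime_card h
  letI := IsCyclic.commGroup (α := (G ⧸ O) ⧸ (T : Subgroup (G ⧸ O)))
  exact Group.isSolvable_of_comm fun a b => mul_comm a b

theorem isSolvable_metacyclic (hodd : ∀ N : Subgroup G, Odd (Nat.card N) → Group.IsSolvable N)
    (S : Sylow 2 G) (N : Subgroup (S : Subgroup G)) [hN : N.Normal] (hNc : IsCyclic N)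
    (hQc : IsCyclic ((S : Subgroup G) ⧸ N)) (hQ : 2 < Nat.card ((S : Subgroup G) ⧸ N)) :
    Group.IsSolvable G := by
  haveI : Fact (Nat.Prime 2) := ⟨Nat.prime_two⟩
  have hm : Cfsg.IsMetacyclic (S : Subgroup G) := ⟨N, hN, hNc, hQc⟩
  have hS2 : IsPGroup 2 (S : Subgroup G) := S.2
  letI := hQc
  letI : CommGroup ((S : Subgroup G) ⧸ N) := IsCyclic.commGroup
  let π : (S : Subgroup G) →* (S : Subgroup G) ⧸ N := QuotientGroup.mk' N
  have hπ : Function.Surjective π := QuotientGroup.mk'_surjective N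
  by_cases hcyc : IsCyclic (S : Subgroup G)
  · exact isSolvable_of_complement hodd (complement_of_cyclic S hcyc)
  by_cases hh : ∃ n k : ℕ, Nonempty ((S : Subgroup G) ≃* Multiplicative (Fin k → ZMod (2 ^ n)))
  · obtain ⟨n, k, ⟨e⟩⟩ := hh
    have hk : k = 2 := by
      rcases Nat.eq_zero_or_pos n with rfl | hn
      · exfalso
        haveI : Subsingleton (ZMod (2 ^ 0)) := inferInstanceAs (Subsingleton (ZMod 1))
        haveI : Subsingleton (Multiplicative (Fin k → ZMod (2 ^ 0))) :=
          inferInstanceAs (Subsingleton (Fin k → ZMod (2 ^ 0)))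
        haveI : Subsingleton (S : Subgroup G) := e.toEquiv.subsingleton
        exact hcyc inferInstance
      rcases Nat.lt_or_ge k 2 with hk | hk
      · exfalso
        refine hcyc ?_
        rcases (show k = 0 ∨ k = 1 by omega) with rfl | rfl
        · haveI : Subsingleton (S : Subgroup G) := e.toEquiv.subsingleton
          exact inferInstance
        · exact isCyclic_of_surjective (e.trans (AddEquiv.toMultiplicative
            (AddEquiv.piUnique (fun _ : Fin 1 => ZMod (2 ^ n))))).symm (MulEquiv.surjective _)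
      refine le_antisymm ?_ hk
      have h2 : (2 : ℕ) ∣ 2 ^ n := dvd_pow_self 2 hn.ne'
      let f : Multiplicative (Fin k → ZMod (2 ^ n)) →* Multiplicative (Fin k → ZMod 2) :=
        AddMonoidHom.toMultiplicative (AddMonoidHom.compLeft (ZMod.castHom h2 (ZMod 2)).toAddMonoidHom (Fin k))
      have hf : Function.Surjective f := fun y => by
        obtain ⟨x, hx⟩ := Classical.axiomOfChoice (fun i => ZMod.castHom_surjective h2 (Multiplicative.toAdd y i))
        exact ⟨Multiplicative.ofAdd x, by apply Multiplicative.toAdd.injective; funext i; exact hx i⟩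
      have hle := CfsgLib.Techniques.metacyclic_card_le hm (f.comp e.toMonoidHom)
        (hf.comp e.surjective) (e := 2) (by norm_num) (fun y => by
          apply Multiplicative.toAdd.injective
          funext i
          simpa using CharTwo.two_nsmul (Multiplicative.toAdd y i))
      rw [Nat.card_congr Multiplicative.toAdd, Nat.card_fun, Nat.card_zmod, Nat.card_fin] at hle
      exact (Nat.pow_le_pow_iff_right (by norm_num : 1 < 2)).1 (hle.trans (by norm_num))
    subst hk
    by_cases hn : 2 ≤ n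
    · exact isSolvable_homocyclic hodd S n hn (e.trans (AddEquiv.toMultiplicative
        (LinearEquiv.finTwoArrow ℤ (ZMod (2 ^ n))).toAddEquiv))
    · exfalso
      have := card_range_le_two π hπ fun d => by
        have hd : d ^ 2 = 1 := e.injective (by
          rw [map_pow, map_one]
          apply Multiplicative.toAdd.injective
          funext i
          have h2 : (2 ^ n : ℕ) ∣ 2 := by
            rcases (show n = 0 ∨ n = 1 by omega) with rfl | rfl <;> norm_num
          simp only [toAdd_pow, toAdd_one, Pi.smul_apply, Pi.zero_apply, nsmul_eq_mul]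
          rw [(ZMod.natCast_eq_zero_iff 2 (2 ^ n)).2 h2, zero_mul])
        rw [← map_pow, hd, map_one]
      omega
  have hd : ¬ ∃ m : ℕ, Nonempty ((S : Subgroup G) ≃* DihedralGroup m) := by
    rintro ⟨m, ⟨e⟩⟩
    have := card_range_le_two π hπ fun d => by
      simpa using sq_map_dihedral (π.comp e.symm.toMonoidHom) (e d)
    omega
  have hq : ¬ ∃ m : ℕ, Nonempty ((S : Subgroup G) ≃* QuaternionGroup m) := by
    rintro ⟨m, ⟨e⟩⟩
    rcases Nat.even_or_odd m with hev | hodd'
    · have := card_range_le_two π hπ fun d => by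
        simpa using sq_map_quaternion hev (π.comp e.symm.toMonoidHom) (e d)
      omega
    · refine hcyc ?_
      haveI : NeZero m := ⟨hodd'.pos.ne'⟩
      obtain ⟨a, ha⟩ := IsPGroup.iff_card.1 hS2
      rw [Nat.card_congr e.toEquiv, Nat.card_eq_fintype_card, QuaternionGroup.card] at ha
      have hdvd : m ∣ 2 ^ a := Dvd.intro_left 4 ha
      obtain ⟨i, -, hi⟩ := (Nat.dvd_prime_pow Nat.prime_two).1 hdvd
      have hm1 : m = 1 := by
        rcases Nat.eq_zero_or_pos i with rfl | hpos
        · simpa using hi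
        · rw [hi] at hodd'
          exact absurd ((Nat.even_pow).2 ⟨even_two, hpos.ne'⟩) (Nat.not_even_iff_odd.2 hodd')
      subst hm1
      exact (QuaternionGroup.quaternionGroup_one_isCyclic : IsCyclic (QuaternionGroup 1)) |> e.isCyclic.2
  have hsd : ¬ Cfsg.IsQuasiDihedral (S : Subgroup G) := by
    rintro ⟨k, hk, hcard, x, y, hx, hy, hyx⟩
    have hx2 : π x ^ 2 = 1 := by
      have h1 := congrArg π hyx
      rw [map_mul, map_mul, map_inv, mul_comm (π y), mul_assoc, mul_inv_cancel, mul_one, map_pow] at h1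
      have h2 : orderOf (π x) ∣ 2 ^ (k - 1) - 2 := by
        refine orderOf_dvd_of_pow_eq_one ?_
        have h4 : 4 ≤ 2 ^ (k - 1) := (by norm_num : 4 ≤ 2 ^ 2).trans (Nat.pow_le_pow_right two_pos (by omega))
        rw [show 2 ^ (k - 1) - 1 = (2 ^ (k - 1) - 2) + 1 by omega, pow_succ] at h1
        exact mul_right_cancel (h1.symm.trans (one_mul _).symm)
      have h3 : orderOf (π x) ∣ 2 ^ k := hx ▸ orderOf_map_dvd π x
      refine orderOf_dvd_iff_pow_eq_one.1 ((Nat.dvd_gcd h3 h2).trans ?_)
      have e1 : 2 ^ (k - 1) - 2 = 2 * (2 ^ (k - 2) - 1) := by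
        rw [Nat.mul_sub, ← pow_succ']; congr 2; omega
      rw [e1]
      have hodd2 : Nat.Coprime (2 ^ k) (2 ^ (k - 2) - 1) := by
        refine (Nat.coprime_two_left.2 ?_).pow_left k
        have h1 : 1 ≤ 2 ^ (k - 2) := Nat.one_le_two_pow
        have h2 : Even (2 ^ (k - 2)) := (Nat.even_pow).2 ⟨even_two, by omega⟩
        rw [Nat.odd_iff]
        rw [Nat.even_iff] at h2
        omega
      rw [Nat.Coprime.gcd_mul_right_cancel_right 2 hodd2.symm]
      exact Nat.gcd_dvd_right _ _
    have hy2 : π y ^ 2 = 1 := by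
      have h := pow_orderOf_eq_one y
      rw [hy] at h
      rw [← map_pow, h, map_one]
    have hgen : ∀ d : (S : Subgroup G), π d ^ 2 = 1 := by
      let K : Subgroup (S : Subgroup G) := (powMonoidHom 2 : ((S : Subgroup G) ⧸ N) →* _).ker.comap π
      have hxK : x ∈ K := hx2
      have hyK : y ∈ K := hy2
      have hy' : y ∉ zpowers x := by
        intro h
        obtain ⟨j, rfl⟩ := mem_zpowers_iff.1 h
        have h4 : 4 ≤ 2 ^ (k - 1) := (by norm_num : 4 ≤ 2 ^ 2).trans (Nat.pow_le_pow_right two_pos (by omega))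
        rw [show x ^ j * x * (x ^ j)⁻¹ = x by group,
          show 2 ^ (k - 1) - 1 = (2 ^ (k - 1) - 2) + 1 by omega, pow_succ] at hyx
        have h6 := Nat.le_of_dvd (by omega) (orderOf_dvd_of_pow_eq_one
          (mul_right_cancel (hyx.symm.trans (one_mul x).symm) : x ^ (2 ^ (k - 1) - 2) = 1))
        rw [hx] at h6
        have h5 : 2 ^ (k - 1) ≤ 2 ^ k := Nat.pow_le_pow_right two_pos (by omega)
        omega
      have hlt : Nat.card (zpowers x) < Nat.card K :=
        lt_of_le_of_ne (card_le_of_le (zpowers_le.2 hxK)) fun e => hy' ((eq_of_le_of_card_ge (zpowers_le.2 hxK) e.ge) ▸ hyK)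
      have hKtop : K = ⊤ := by
        refine Subgroup.eq_top_of_card_eq _ ?_
        obtain ⟨i, hi⟩ := IsPGroup.iff_card.1 (hS2.to_subgroup K)
        have hd : Nat.card K ∣ 2 ^ (k + 1) := hcard ▸ K.card_subgroup_dvd_card
        rw [Nat.card_zpowers, hx, hi] at hlt
        rw [hi] at hd ⊢
        have := (Nat.pow_le_pow_iff_right (by norm_num : 1 < 2)).1 (Nat.le_of_dvd (by positivity) hd)
        have := (Nat.pow_lt_pow_iff_right (by norm_num : 1 < 2)).1 hlt
        rw [hcard]
        congr 1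
        omega
      exact fun d => (hKtop ▸ mem_top d : d ∈ K)
    have := card_range_le_two π hπ hgen
    omega
  have hin := Cfsg.Agent.S5212.result (S := (S : Subgroup G)) hS2 _ (Cfsg.Agent.S5076.result 2 S)
    hm hh hd hq hsd
  refine isSolvable_of_complement hodd (complement_of_not_homocyclic S fun Q hQ' g hg hg2 => ?_)
  let φ := Q.normalizerMonoidHom ⟨g, hg⟩
  have hmem : Q.subtype.comp φ.toMonoidHom ∈ (Cfsg.groupFusionSystem (S : Subgroup G)).Hom Q :=
    ⟨hQ', fun x => hQ' (φ x).2, g, fun x => rfl⟩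
  rw [hin Q] at hmem
  obtain ⟨-, s, hs, hsx⟩ := hmem
  exact ⟨φ, Or.inr ⟨s, hs, hsx⟩, fun q => rfl⟩

end CfsgLib.OddGated
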