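import Cfsg.Agent.Lib.Components.TwoRankOne
import Cfsg.Agent.Lib.TwoGroups.RankTwoTypes
import Cfsg.Agent.Lib.ZStar.Main
import Cfsg.Agent.S0949

/-!
# Simple groups of even order and 2-rank at most two: the Sylow 2-subgroup
-/

set_option autoImplicit false
set_option linter.all false

namespace CfsgLib.OddGated

open Subgroup

theorem simple_rank_le_two {G : Type*} [Group G] [Finite G] [IsSimpleGroup G]
    (hG : ¬ IsMulCommutative G) (heven : Even (Nat.card G)) (h2 : Cfsg.PRankLE 2 2 G) (S : Sylow 2 G)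
    {F : Type*} [Field F] [Fintype F] (hF : Fintype.card F = 16) (P : Sylow 2 (Cfsg.PSU 3 F 4)) :
    (∃ n : ℕ, 2 ≤ n ∧ Nonempty ((S : Subgroup G) ≃* DihedralGroup n)) ∨
      Cfsg.IsQuasiDihedral (S : Subgroup G) ∨ Cfsg.IsWreathed (S : Subgroup G) ∨
      Nonempty ((S : Subgroup G) ≃* (P : Subgroup (Cfsg.PSU 3 F 4))) := by
  haveI : Fact (Nat.Prime 2) := ⟨Nat.prime_two⟩
  have hcen : center G = ⊥ := by
    rcases (inferInstance : (center G).Normal).eq_bot_or_eq_top with h | h
    · exact h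
    · exact absurd ⟨⟨fun a b => mem_center_iff.1 (h ▸ mem_top b) a⟩⟩ hG
  have hO : ∀ N : Subgroup G, N.Normal → Odd (Nat.card N) → N = ⊥ := by
    intro N hN hodd
    rcases hN.eq_bot_or_eq_top with h | h
    · exact h
    · rw [h, card_top] at hodd
      exact absurd heven (Nat.not_even_iff_odd.2 hodd)
  have hcomm : commutator G = ⊤ := by
    rcases (inferInstance : (commutator G).Normal).eq_bot_or_eq_top with h | h
    · exact absurd ⟨⟨fun a b => mem_center_iff.1 (((commutator_eq_bot_iff_center_eq_top G).1 h) ▸ mem_top b) a⟩⟩ hG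
    · exact h
  have hiso : ∀ z : G, ¬ Cfsg.IsIsolatedInvolution z := by
    intro z hz
    have h1 : z ∈ center G := mem_center_iff.2 fun g => by
      have := CfsgLib.ZStar.mem_oddCore_of_isolated hz g
      rw [hO _ inferInstance (CfsgLib.ZStar.odd_card_oddCore G), mem_bot] at this
      rw [mul_inv_eq_one, mul_inv_eq_iff_eq_mul] at this
      exact this.symm
    rw [hcen, mem_bot] at h1
    have h3 := hz.1
    rw [h1, orderOf_one] at h3
    exact absurd h3 (by norm_num)
  have h1 : ¬ Cfsg.PRankLE 2 1 G := by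
    intro hrk
    obtain ⟨t, ht, htc⟩ := CfsgLib.Components.exists_central_involution_of_rank_le_one
      (L := G) ⟨⟨hcomm⟩, by
        exact (QuotientGroup.quotientMulEquivOfEq hcen).trans QuotientGroup.quotientBot |>.isSimpleGroup⟩
      heven.two_dvd hrk
    rw [hcen, mem_bot] at htc
    rw [htc, orderOf_one] at ht
    exact absurd ht (by norm_num)
  rcases CfsgLib.TwoGroups.RankTwoTypes.main h2 h1 hiso S hF P with h | h | h | ⟨m, hm, ⟨e⟩⟩ | h
  · exact Or.inl h
  · exact Or.inr (Or.inl h)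
  · exact Or.inr (Or.inr (Or.inl h))
  · exfalso
    obtain ⟨hN, -, hidx⟩ := Cfsg.Agent.S0949.result S m hm e hO
    rcases hN.eq_bot_or_eq_top with h | h
    · have h3 : Nat.card (S : Subgroup G) = (2 ^ m) ^ 2 := by
        rw [Nat.card_congr e.toEquiv, Nat.card_congr Multiplicative.toAdd, Nat.card_prod, Nat.card_zmod, sq]
      rw [h, card_bot] at h3
      have : 4 ≤ 2 ^ m := (by norm_num : 4 ≤ 2 ^ 2).trans (Nat.pow_le_pow_right two_pos hm)
      nlinarith
    · refine hG ⟨⟨fun a b => ?_⟩⟩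
      have := congrArg Subtype.val (e.injective (show
        e (⟨a, h ▸ mem_top a⟩ * ⟨b, h ▸ mem_top b⟩) = e (⟨b, h ▸ mem_top b⟩ * ⟨a, h ▸ mem_top a⟩) by
          rw [map_mul, map_mul, mul_comm]))
      exact this
  · exact Or.inr (Or.inr (Or.inr h))

/-- S0516 given solubility of groups of odd order. -/
theorem simple_rank_le_two_of_odd {G : Type*} [Group G] [Finite G] [IsSimpleGroup G]
    (hG : ¬ IsMulCommutative G) (hsolv : Odd (Nat.card G) → Group.IsSolvable G)
    (h2 : Cfsg.PRankLE 2 2 G) (S : Sylow 2 G)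
    {F : Type*} [Field F] [Fintype F] (hF : Fintype.card F = 16) (P : Sylow 2 (Cfsg.PSU 3 F 4)) :
    (∃ n : ℕ, 2 ≤ n ∧ Nonempty ((S : Subgroup G) ≃* DihedralGroup n)) ∨
      Cfsg.IsQuasiDihedral (S : Subgroup G) ∨ Cfsg.IsWreathed (S : Subgroup G) ∨
      Nonempty ((S : Subgroup G) ≃* (P : Subgroup (Cfsg.PSU 3 F 4))) := by
  refine simple_rank_le_two hG ?_ h2 S hF P
  by_contra hne
  haveI := hsolv (Nat.not_even_iff_odd.1 hne)
  rcases (inferInstance : (commutator G).Normal).eq_bot_or_eq_top with h | h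
  · exact hG ⟨⟨fun a b => mem_center_iff.1
      (((commutator_eq_bot_iff_center_eq_top G).1 h) ▸ mem_top b) a⟩⟩
  · exact (Group.IsSolvable.commutator_lt_top_of_nontrivial G).ne h

end CfsgLib.OddGated
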