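import Mathlib
import Cfsg.Agent.Lib.Core.SchurZassenhaus
import Cfsg.Prelude.Def_HallClasses

/-!
# Hall subgroups through extensions, given solubility of groups of odd order

Every statement that needs it takes the hypothesis `hodd` (groups of odd order are soluble).
* `cpi_of_piNormal` : `P` a normal `π`-subgroup, `G/P` is C_π ⇒ `G` is C_π
* `cpi_extension` : `A` and `G/A` are C_π ⇒ `G` is C_π
* `hall_separable` : Hall theorems for `π`-separable groups
-/

set_option autoImplicit false
set_option linter.all false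

namespace CfsgLib.OddGated

open scoped Pointwise
open Cfsg Subgroup

universe u

/-- Groups of odd order are soluble. -/
def OddSolvable : Prop :=
  ∀ (H : Type u) [Group H] [Finite H], Odd (Nat.card H) → Group.IsSolvable H

/-- Only primes of `π` divide `n`. -/
def PiNat (π : Set ℕ) (n : ℕ) : Prop := ∀ p : ℕ, p.Prime → p ∣ n → p ∈ π

/-- No prime of `π` divides `n`. -/
def CoPiNat (π : Set ℕ) (n : ℕ) : Prop := ∀ p : ℕ, p.Prime → p ∈ π → ¬ p ∣ n

variable {π : Set ℕ} {G : Type u} [Group G]

theorem PiNat.of_dvd {a b : ℕ} (h : PiNat π b) (hd : a ∣ b) : PiNat π a :=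
  fun p hp hpa => h p hp (hpa.trans hd)

theorem CoPiNat.of_dvd {a b : ℕ} (h : CoPiNat π b) (hd : a ∣ b) : CoPiNat π a :=
  fun p hp hpi hpa => h p hp hpi (hpa.trans hd)

theorem PiNat.mul {a b : ℕ} (ha : PiNat π a) (hb : PiNat π b) : PiNat π (a * b) :=
  fun p hp h => ((hp.dvd_mul).1 h).elim (ha p hp) (hb p hp)

theorem CoPiNat.mul {a b : ℕ} (ha : CoPiNat π a) (hb : CoPiNat π b) : CoPiNat π (a * b) :=
  fun p hp hpi h => ((hp.dvd_mul).1 h).elim (ha p hp hpi) (hb p hp hpi)

theorem PiNat.coprime {a b : ℕ} (ha : PiNat π a) (hb : CoPiNat π b) : a.Coprime b :=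
  Nat.coprime_of_dvd fun p hp h1 h2 => hb p hp (ha p hp h1) h2

theorem eq_one_of_pi_copi {a : ℕ} (ha : PiNat π a) (hb : CoPiNat π a) : a = 1 := by
  by_contra h
  obtain ⟨p, hp, hpa⟩ := Nat.exists_prime_and_dvd h
  exact hb p hp (ha p hp hpa) hpa

theorem isPiHall_iff {H : Subgroup G} :
    IsPiHall π H ↔ PiNat π (Nat.card H) ∧ CoPiNat π H.index := Iff.rfl

theorem conj_eq_smul (H : Subgroup G) (g : G) :
    H.map (MulAut.conj g).toMonoidHom = MulAut.conj g • H := rfl

theorem isPiHall_conj {H : Subgroup G} (hH : IsPiHall π H) (g : G) :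
    IsPiHall π (H.map (MulAut.conj g).toMonoidHom) := by
  refine ⟨?_, ?_⟩
  · rw [card_map_of_injective (MulEquiv.injective _)]; exact hH.1
  · rw [index_map_of_bijective (MulEquiv.bijective _)]; exact hH.2

variable [Finite G]

theorem sup_card_dvd (H P : Subgroup G) [P.Normal] :
    Nat.card (H ⊔ P : Subgroup G) ∣ Nat.card H * Nat.card P := by
  have h1 := card_mul_index (P.subgroupOf (H ⊔ P))
  rw [show (P.subgroupOf (H ⊔ P)).index = P.relIndex (H ⊔ P) from rfl,
    relIndex_sup_right, Nat.card_congr (subgroupOfEquivOfLe le_sup_right).toEquiv] at h1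
  rw [← h1, mul_comm (Nat.card H)]
  exact mul_dvd_mul_left _ (relIndex_dvd_card _ _)

theorem relIndex_sup_normal (A H : Subgroup G) [A.Normal] : H.relIndex (H ⊔ A) = H.relIndex A := by
  have h1 := relIndex_mul_relIndex (H ⊓ A) H (H ⊔ A) inf_le_left le_sup_left
  have h2 := relIndex_mul_relIndex (H ⊓ A) A (H ⊔ A) inf_le_right le_sup_right
  rw [relIndex_sup_right, inf_relIndex_right] at h2
  rw [inf_relIndex_left] at h1
  have h3 : A.relIndex H ≠ 0 := fun h => Subgroup.index_ne_zero_of_finite h
  have h4 : H.relIndex A = H.relIndex (H ⊔ A) := by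
    rw [mul_comm, ← h1] at h2
    exact Nat.eq_of_mul_eq_mul_left (Nat.pos_of_ne_zero h3) h2
  exact h4.symm

theorem relIndex_dvd_index_normal (A H : Subgroup G) [A.Normal] : H.relIndex A ∣ H.index :=
  relIndex_sup_normal A H ▸ relIndex_dvd_index_of_le le_sup_left

omit [Finite G] in
theorem map_subtype_conj {A : Subgroup G} (H : Subgroup A) (a : A) :
    (H.map (MulAut.conj a).toMonoidHom).map A.subtype
      = (H.map A.subtype).map (MulAut.conj (a : G)).toMonoidHom := by
  rw [Subgroup.map_map, Subgroup.map_map]; rfl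

/-- A normal `π`-subgroup lies in every Hall `π`-subgroup. -/
theorem le_piHall {P H : Subgroup G} [P.Normal] (hP : PiNat π (Nat.card P)) (hH : IsPiHall π H) :
    P ≤ H := by
  have h1 : PiNat π (H.relIndex (H ⊔ P)) :=
    PiNat.of_dvd (PiNat.mul hH.1 hP) ((Dvd.intro_left _
      (by
        have := card_mul_index (H.subgroupOf (H ⊔ P))
        rwa [Nat.card_congr (subgroupOfEquivOfLe le_sup_left).toEquiv] at this)).trans (sup_card_dvd H P))
  have h2 : CoPiNat π (H.relIndex (H ⊔ P)) :=
    CoPiNat.of_dvd hH.2 (relIndex_dvd_index_of_le le_sup_left)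
  exact le_sup_right.trans (relIndex_eq_one.1 (eq_one_of_pi_copi h1 h2))

theorem isPiHall_map {G' : Type*} [Group G'] {H : Subgroup G} (hH : IsPiHall π H) (f : G →* G')
    (hf : Function.Surjective f) : IsPiHall π (H.map f) :=
  ⟨PiNat.of_dvd hH.1 (card_map_dvd _ _), CoPiNat.of_dvd hH.2 (index_map_dvd _ hf)⟩

theorem isPiHall_subgroupOf_normal {A H : Subgroup G} [A.Normal] (hH : IsPiHall π H) :
    IsPiHall π (H.subgroupOf A) := by
  refine ⟨?_, ?_⟩
  · have h : Nat.card (H.subgroupOf A) ∣ Nat.card H := by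
      rw [← card_map_of_injective A.subtype_injective, subgroupOf_map_subtype]
      exact card_dvd_of_le inf_le_left
    exact PiNat.of_dvd hH.1 h
  · exact CoPiNat.of_dvd hH.2 (relIndex_dvd_index_normal A H)

theorem isPiHall_of_le {H N : Subgroup G} (hHN : H ≤ N) (hH : IsPiHall π H) :
    IsPiHall π (H.subgroupOf N) := by
  refine ⟨?_, CoPiNat.of_dvd hH.2 (relIndex_dvd_index_of_le hHN)⟩
  rw [Nat.card_congr (subgroupOfEquivOfLe hHN).toEquiv]; exact hH.1

theorem isPiHall_map_subtype {N : Subgroup G} (hN : CoPiNat π N.index) {K : Subgroup N}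
    (hK : IsPiHall π K) : IsPiHall π (K.map N.subtype) := by
  refine ⟨?_, ?_⟩
  · rw [card_map_of_injective N.subtype_injective]; exact hK.1
  · rw [index_map_subtype]; exact CoPiNat.mul hK.2 hN

theorem exists_conj_in {N : Subgroup G} (hN : IsCPiGroup π N) {H K : Subgroup G} (hH : H ≤ N)
    (hK : K ≤ N) (hH' : IsPiHall π H) (hK' : IsPiHall π K) :
    ∃ g ∈ N, K = H.map (MulAut.conj g).toMonoidHom := by
  obtain ⟨g, hg⟩ := hN.2 _ _ (isPiHall_of_le hH hH') (isPiHall_of_le hK hK')
  refine ⟨g, g.2, ?_⟩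
  have := congrArg (Subgroup.map N.subtype) hg
  rw [map_subgroupOf_eq_of_le hK, map_subtype_conj, map_subgroupOf_eq_of_le hH] at this
  exact this

/-- Passing to the quotient by a normal `π`-subgroup. -/
theorem cpi_of_piNormal {P : Subgroup G} [P.Normal] (hP : PiNat π (Nat.card P))
    (hQ : IsCPiGroup π (G ⧸ P)) : IsCPiGroup π G := by
  have hsurj := QuotientGroup.mk'_surjective P
  have hker : (QuotientGroup.mk' P).ker = P := QuotientGroup.ker_mk' P
  refine ⟨?_, fun H K hH hK => ?_⟩
  · obtain ⟨Hb, hHb⟩ := hQ.1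
    refine ⟨Hb.comap (QuotientGroup.mk' P), ?_, ?_⟩
    · have h := card_mul_index (P.subgroupOf (Hb.comap (QuotientGroup.mk' P)))
      rw [Nat.card_congr (subgroupOfEquivOfLe (le_of_eq_of_le hker.symm (ker_le_comap (QuotientGroup.mk' P) Hb))).toEquiv] at h
      rw [← h]
      refine PiNat.mul hP (PiNat.of_dvd hHb.1 ?_)
      have e := relIndex_ker (f := QuotientGroup.mk' P) (K := Hb.comap (QuotientGroup.mk' P))
      rw [hker, map_comap_eq_self_of_surjective hsurj] at e
      exact dvd_of_eq e
    · rw [index_comap_of_surjective _ hsurj]; exact hHb.2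
  · obtain ⟨gb, hg⟩ := hQ.2 _ _ (isPiHall_map hH _ hsurj) (isPiHall_map hK _ hsurj)
    obtain ⟨g, rfl⟩ := hsurj gb
    refine ⟨g, ?_⟩
    rw [map_map, show (MulAut.conj (QuotientGroup.mk' P g)).toMonoidHom.comp (QuotientGroup.mk' P)
        = (QuotientGroup.mk' P).comp (MulAut.conj g).toMonoidHom from
        MonoidHom.ext fun x => by simp, ← map_map] at hg
    have h1 : P ≤ K := le_piHall hP hK
    have h2 : P ≤ H.map (MulAut.conj g).toMonoidHom := le_piHall hP (isPiHall_conj hH g)
    have h3 := congrArg (Subgroup.comap (QuotientGroup.mk' P)) hg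
    rwa [comap_map_eq_self (by rw [hker]; exact h1),
      comap_map_eq_self (by rw [hker]; exact h2)] at h3

theorem coprime_solvable (hodd : OddSolvable.{u}) (N : Subgroup G) [N.Normal]
    (hcop : (Nat.card N).Coprime N.index) : Group.IsSolvable N ∨ Group.IsSolvable (G ⧸ N) := by
  rcases Nat.even_or_odd (Nat.card N) with he | ho
  · refine Or.inr (hodd _ ?_)
    rw [← Subgroup.index_eq_card, ← Nat.not_even_iff_odd]
    intro he'
    exact absurd (Nat.eq_one_of_dvd_coprimes hcop he.two_dvd he'.two_dvd) (by norm_num)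
  · exact Or.inl (hodd _ ho)

/-- A normal `π'`-subgroup with `π`-quotient: the Hall `π`-subgroups are its complements. -/
theorem cpi_of_coPi (hodd : OddSolvable.{u}) {N : Subgroup G} [N.Normal]
    (hN : CoPiNat π (Nat.card N)) (hQ : PiNat π N.index) : IsCPiGroup π G := by
  have hcop : (Nat.card N).Coprime N.index := (hQ.coprime hN).symm
  refine ⟨?_, fun H K hH hK => ?_⟩
  · obtain ⟨H, hH⟩ := exists_right_complement'_of_coprime hcop
    refine ⟨H, ?_, ?_⟩
    · rw [← hH.symm.index_eq_card]; exact hQ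
    · rw [hH.index_eq_card]; exact hN
  · have key : ∀ {L : Subgroup G}, IsPiHall π L → IsComplement' N L := by
      intro L hL
      have h1 : Nat.card L ∣ N.index := by
        have h : Nat.card L ∣ Nat.card N * N.index := N.card_mul_index ▸ L.card_subgroup_dvd_card
        exact (Nat.Coprime.dvd_mul_left (PiNat.coprime hL.1 hN)).1 h
      have h2 : N.index ∣ Nat.card L := by
        have h : N.index ∣ Nat.card L * L.index := L.card_mul_index ▸ N.index_dvd_card
        exact (Nat.Coprime.dvd_mul_right (hQ.coprime hL.2)).1 h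
      have h3 : Nat.card L = N.index := Nat.dvd_antisymm h1 h2
      exact isComplement'_of_coprime (by rw [h3]; exact N.card_mul_index) (h3 ▸ hcop)
    obtain ⟨n, -, hn⟩ := CfsgLib.Core.exists_conj_complement N hcop (coprime_solvable hodd N hcop)
      (key hH) (key hK)
    exact ⟨n, hn.symm⟩

theorem cpi_of_piGroup (h : PiNat π (Nat.card G)) : IsCPiGroup π G := by
  have hu : ∀ H : Subgroup G, IsPiHall π H → H = ⊤ := fun H hH =>
    index_eq_one.1 (eq_one_of_pi_copi (h.of_dvd H.index_dvd_card) hH.2)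
  refine ⟨⟨⊤, by rw [card_top]; exact h, fun p hp _ => by rw [index_top]; exact hp.not_dvd_one⟩,
    fun H K hH hK => ⟨1, ?_⟩⟩
  rw [hu H hH, hu K hK, ← MonoidHom.range_eq_map, MonoidHom.range_eq_top.2 (MulEquiv.surjective _)]

theorem cpi_of_coPiGroup (h : CoPiNat π (Nat.card G)) : IsCPiGroup π G := by
  have hu : ∀ H : Subgroup G, IsPiHall π H → H = ⊥ := fun H hH =>
    eq_bot_of_card_eq H (eq_one_of_pi_copi hH.1 (h.of_dvd H.card_subgroup_dvd_card))
  refine ⟨⟨⊥, fun p hp hd => absurd (by simpa using hd) hp.not_dvd_one,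
    by rw [index_bot]; exact h⟩, fun H K hH hK => ⟨1, ?_⟩⟩
  rw [hu H hH, hu K hK, Subgroup.map_bot]

/-- `A` is C_π and `G/A` is a `π`-group. -/
theorem cpi_of_piQuot (hodd : OddSolvable.{u}) (A : Subgroup G) [A.Normal] (hA : IsCPiGroup π A)
    (hQ : PiNat π A.index) : IsCPiGroup π G := by
  obtain ⟨HA, hHA⟩ := hA.1
  set P : Subgroup G := HA.map A.subtype with hPdef
  have hPA : P ≤ A := map_subtype_le HA
  set N : Subgroup G := normalizer (P : Set G) with hNdef
  have hPN : P ≤ N := le_normalizer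
  have hfr : ∀ g : G, ∃ a ∈ A, a⁻¹ * g ∈ N := by
    intro g
    have h1 : P.map (MulAut.conj g).toMonoidHom ≤ A := by
      rintro _ ⟨x, hx, rfl⟩
      exact Normal.conj_mem inferInstance x (hPA hx) g
    have h2 : IsPiHall π ((P.map (MulAut.conj g).toMonoidHom).subgroupOf A) := by
      refine ⟨?_, ?_⟩
      · rw [Nat.card_congr (subgroupOfEquivOfLe h1).toEquiv,
          card_map_of_injective (MulEquiv.injective _), card_map_of_injective A.subtype_injective]
        exact hHA.1
      · have e : A.map (MulAut.conj g).toMonoidHom = A := by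
          rw [conj_eq_smul]; exact Normal.conj_smul_eq_self g A
        show CoPiNat π ((P.map (MulAut.conj g).toMonoidHom).relIndex A)
        conv => arg 2; arg 2; rw [← e]
        rw [relIndex_map_map_of_injective _ _ (MulEquiv.injective _),
          show P.relIndex A = (P.subgroupOf A).index from rfl, hPdef, subgroupOf,
          comap_map_eq_self_of_injective A.subtype_injective]
        exact hHA.2
    obtain ⟨a, ha⟩ := hA.2 _ _ hHA h2
    refine ⟨a, a.2, ?_⟩
    have h3 := congrArg (Subgroup.map A.subtype) ha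
    rw [map_subgroupOf_eq_of_le h1, map_subtype_conj] at h3
    rw [conj_eq_smul, conj_eq_smul] at h3
    rw [hNdef, mem_normalizer_iff_map_conj_eq]
    show MulAut.conj ((a : G)⁻¹ * g) • P = P
    rw [map_mul, mul_smul, h3, ← mul_smul, ← map_mul, inv_mul_cancel, map_one, one_smul]
  have hNA : A ⊔ N = ⊤ := eq_top_iff.2 fun g _ => by
    obtain ⟨a, ha, h⟩ := hfr g
    have := mul_mem (mem_sup_left (T := N) ha) (mem_sup_right (S := A) h)
    rwa [mul_inv_cancel_left] at this
  have hPn : (P.subgroupOf N).Normal := normal_subgroupOf_of_le_normalizer le_rfl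
  have hcardP : Nat.card (P.subgroupOf N) = Nat.card HA := by
    rw [Nat.card_congr (subgroupOfEquivOfLe hPN).toEquiv,
      card_map_of_injective A.subtype_injective]
  have hidx : CoPiNat π (P.relIndex A) := by
    rw [show P.relIndex A = (P.subgroupOf A).index from rfl, hPdef, subgroupOf,
      comap_map_eq_self_of_injective A.subtype_injective]
    exact hHA.2
  have hNind : N.index ∣ P.relIndex A := by
    rw [← relIndex_top_right, ← hNA, sup_comm, relIndex_sup_normal]
    exact relIndex_dvd_of_le_left A hPN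
  have hNcpi : IsCPiGroup π N := by
    refine @cpi_of_piNormal π N _ _ (P.subgroupOf N) hPn (hcardP ▸ hHA.1) ?_
    haveI := hPn
    haveI : ((A.subgroupOf N).map (QuotientGroup.mk' (P.subgroupOf N))).Normal :=
      Normal.map inferInstance _ (QuotientGroup.mk'_surjective _)
    have hle : P.subgroupOf N ≤ A.subgroupOf N := comap_mono hPA
    refine cpi_of_coPi hodd (N := (A.subgroupOf N).map (QuotientGroup.mk' (P.subgroupOf N))) ?_ ?_
    · rw [← relIndex_ker, QuotientGroup.ker_mk',
        show A.subgroupOf N = (A ⊓ N).subgroupOf N from (inf_subgroupOf_right A N).symm,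
        relIndex_subgroupOf inf_le_right]
      exact hidx.of_dvd (Dvd.intro _
        (relIndex_mul_relIndex P (A ⊓ N) A (le_inf hPA hPN) inf_le_left))
    · refine hQ.of_dvd ((index_map_dvd _ (QuotientGroup.mk'_surjective _)).trans ?_)
      exact relIndex_dvd_index_of_normal A N
  refine ⟨?_, fun H K hH hK => ?_⟩
  · obtain ⟨H, hH⟩ := hNcpi.1
    exact ⟨_, isPiHall_map_subtype (hidx.of_dvd hNind) hH⟩
  · have key : ∀ {L : Subgroup G}, IsPiHall π L →
        ∃ a : G, L.map (MulAut.conj a).toMonoidHom ≤ N := by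
      intro L hL
      obtain ⟨a, ha⟩ := hA.2 _ _ (isPiHall_subgroupOf_normal hL) hHA
      refine ⟨a, ?_⟩
      have h3 := congrArg (Subgroup.map A.subtype) ha
      rw [map_subtype_conj, subgroupOf_map_subtype, ← hPdef, Subgroup.map_inf _ _ _ (MulEquiv.injective _),
        show A.map (MulAut.conj (a : G)).toMonoidHom = A from
          (conj_eq_smul A a).trans (Normal.conj_smul_eq_self (a : G) A)] at h3
      rw [hNdef, h3]
      intro x hx
      rw [mem_normalizer_iff]
      intro y
      have hmem : ∀ {z y : G}, z ∈ L.map (MulAut.conj (a : G)).toMonoidHom →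
          y ∈ (L.map (MulAut.conj (a : G)).toMonoidHom ⊓ A : Subgroup G) →
          z * y * z⁻¹ ∈ (L.map (MulAut.conj (a : G)).toMonoidHom ⊓ A : Subgroup G) := fun hz hy =>
        ⟨Subgroup.mul_mem _ (Subgroup.mul_mem _ hz hy.1) (Subgroup.inv_mem _ hz),
          Normal.conj_mem inferInstance _ hy.2 _⟩
      refine ⟨fun hy => hmem hx hy, fun hy => ?_⟩
      have := hmem (inv_mem hx) hy
      simpa [mul_assoc] using this
    obtain ⟨a, ha⟩ := key hH
    obtain ⟨b, hb⟩ := key hK
    obtain ⟨n, -, hn⟩ := exists_conj_in hNcpi ha hb (isPiHall_conj hH a) (isPiHall_conj hK b)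
    refine ⟨b⁻¹ * n * a, ?_⟩
    simp only [conj_eq_smul] at hn ⊢
    rw [map_mul, map_mul, mul_smul, mul_smul, ← hn, ← mul_smul, ← map_mul, inv_mul_cancel,
      map_one, one_smul]

/-- C_π passes through extensions. -/
theorem cpi_extension (hodd : OddSolvable.{u}) (A : Subgroup G) [A.Normal] (hA : IsCPiGroup π A)
    (hQ : IsCPiGroup π (G ⧸ A)) : IsCPiGroup π G := by
  have hsurj := QuotientGroup.mk'_surjective A
  have hker : (QuotientGroup.mk' A).ker = A := QuotientGroup.ker_mk' A
  have key : ∀ Hb : Subgroup (G ⧸ A), IsPiHall π Hb →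
      IsCPiGroup π (Hb.comap (QuotientGroup.mk' A)) ∧
        CoPiNat π (Hb.comap (QuotientGroup.mk' A)).index := by
    intro Hb hHb
    set L := Hb.comap (QuotientGroup.mk' A) with hL
    have hAL : A ≤ L := hker ▸ ker_le_comap _ _
    refine ⟨?_, by rw [hL, index_comap_of_surjective _ hsurj]; exact hHb.2⟩
    let e : A.subgroupOf L ≃* A := subgroupOfEquivOfLe hAL
    have hA' : IsCPiGroup π (A.subgroupOf L) := by
      refine ⟨?_, fun H K hH hK => ?_⟩
      · obtain ⟨H, hH⟩ := hA.1
        exact ⟨_, isPiHall_map hH e.symm.toMonoidHom e.symm.surjective⟩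
      · obtain ⟨g, hg⟩ := hA.2 _ _ (isPiHall_map hH e.toMonoidHom e.surjective)
          (isPiHall_map hK e.toMonoidHom e.surjective)
        refine ⟨e.symm g, map_injective (f := e.toMonoidHom) e.injective ?_⟩
        rw [hg, map_map, map_map]
        congr 1
    refine cpi_of_piQuot hodd (A.subgroupOf L) hA' (PiNat.of_dvd hHb.1 ?_)
    show A.relIndex L ∣ Nat.card Hb
    have e := relIndex_ker (f := QuotientGroup.mk' A) (K := L)
    rw [hker, hL, map_comap_eq_self_of_surjective hsurj] at e
    exact dvd_of_eq e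
  refine ⟨?_, fun H K hH hK => ?_⟩
  · obtain ⟨Hb, hHb⟩ := hQ.1
    obtain ⟨h1, h2⟩ := key Hb hHb
    obtain ⟨H, hH⟩ := h1.1
    exact ⟨_, isPiHall_map_subtype h2 hH⟩
  · obtain ⟨gb, hg⟩ := hQ.2 _ _ (isPiHall_map hH _ hsurj) (isPiHall_map hK _ hsurj)
    obtain ⟨g, rfl⟩ := hsurj gb
    rw [map_map, show (MulAut.conj (QuotientGroup.mk' A g)).toMonoidHom.comp (QuotientGroup.mk' A)
        = (QuotientGroup.mk' A).comp (MulAut.conj g).toMonoidHom from
        MonoidHom.ext fun x => by simp, ← map_map] at hg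
    obtain ⟨h1, -⟩ := key _ (isPiHall_map hK (QuotientGroup.mk' A) hsurj)
    obtain ⟨n, -, hn⟩ := exists_conj_in h1
      (show H.map (MulAut.conj g).toMonoidHom ≤ _ from hg ▸ le_comap_map _ _)
      (le_comap_map _ _) (isPiHall_conj hH g) hK
    refine ⟨n * g, ?_⟩
    simp only [conj_eq_smul] at hn ⊢
    rw [hn, map_mul, mul_smul]

/-- The chain of a `π`-separable group. -/
def SepChain (π : Set ℕ) (G : Type u) [Group G] : Prop :=
  ∃ (n : ℕ) (H : Fin (n + 1) → Subgroup G), H 0 = ⊥ ∧ H (Fin.last n) = ⊤ ∧ Monotone H ∧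
    (∀ i, (H i).Normal) ∧ ∀ i : Fin n, PiNat π ((H i.castSucc).relIndex (H i.succ)) ∨
      ∀ q : ℕ, q.Prime → q ∣ (H i.castSucc).relIndex (H i.succ) → q ∉ π

omit [Finite G] in
theorem SepChain.map {G' : Type u} [Group G'] [Finite G] (h : SepChain π G) (f : G →* G')
    (hf : Function.Surjective f) : SepChain π G' := by
  obtain ⟨n, H, h0, hl, hm, hn, hi⟩ := h
  refine ⟨n, fun i => (H i).map f, by simp [h0], by simp [hl, ← MonoidHom.range_eq_map,
    MonoidHom.range_eq_top.2 hf], fun i j hij => map_mono (hm hij),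
    fun i => (hn i).map f hf, fun i => ?_⟩
  have hd : ((H i.castSucc).map f).relIndex ((H i.succ).map f) ∣
      (H i.castSucc).relIndex (H i.succ) := by
    haveI := hn i.castSucc
    rw [relIndex_map_map]
    rw [show H i.succ ⊔ f.ker = H i.succ ⊔ (H i.castSucc ⊔ f.ker) by
      rw [← sup_assoc, sup_of_le_left (hm (Fin.castSucc_le_succ i))], relIndex_sup_right]
    exact relIndex_dvd_of_le_left _ le_sup_left
  rcases hi i with h | h
  · exact Or.inl (h.of_dvd hd)
  · exact Or.inr fun q hq hqd => h q hq (hqd.trans hd)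

/-- A subgroup lies in a Hall subgroup; with C_π this is the full analogue of Sylow's theorems. -/
def Dominates (π : Set ℕ) (G : Type u) [Group G] : Prop :=
  ∀ U : Subgroup G, PiNat π (Nat.card U) → ∃ K : Subgroup G, IsPiHall π K ∧ U ≤ K

theorem dominates_of_normal (hodd : OddSolvable.{u}) {N : Subgroup G} [N.Normal]
    (hN : PiNat π (Nat.card N) ∨ CoPiNat π (Nat.card N)) (hC : IsCPiGroup π G)
    (hD : Dominates π (G ⧸ N)) : Dominates π G := by
  intro U hU
  have hsurj := QuotientGroup.mk'_surjective N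
  have hker : (QuotientGroup.mk' N).ker = N := QuotientGroup.ker_mk' N
  obtain ⟨Kb, hKb, hUK⟩ := hD (U.map (QuotientGroup.mk' N)) (hU.of_dvd (card_map_dvd _ _))
  set L := Kb.comap (QuotientGroup.mk' N) with hL
  have hNL : N ≤ L := le_of_eq_of_le hker.symm (ker_le_comap _ _)
  have hUL : U ≤ L := (le_comap_map _ _).trans (comap_mono hUK)
  have hLi : CoPiNat π L.index := by rw [hL, index_comap_of_surjective _ hsurj]; exact hKb.2
  have hNLi : N.relIndex L = Nat.card Kb := by
    have e := relIndex_ker (f := QuotientGroup.mk' N) (K := L)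
    rwa [hker, hL, map_comap_eq_self_of_surjective hsurj] at e
  rcases hN with hN | hN
  · refine ⟨L, ⟨?_, hLi⟩, hUL⟩
    have h := card_mul_index (N.subgroupOf L)
    rw [Nat.card_congr (subgroupOfEquivOfLe hNL).toEquiv, show (N.subgroupOf L).index = N.relIndex L
      from rfl, hNLi] at h
    rw [← h]
    exact PiNat.mul hN hKb.1
  · set J : Subgroup G := U ⊔ N with hJ
    have hJL : J ≤ L := sup_le hUL hNL
    have hNJ : Nat.card (N.subgroupOf J) = Nat.card N :=
      Nat.card_congr (subgroupOfEquivOfLe le_sup_right).toEquiv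
    have hJi : (N.subgroupOf J).index ∣ Nat.card U := by
      show N.relIndex J ∣ _
      rw [hJ, relIndex_sup_right]
      exact relIndex_dvd_card N U
    have hJcpi : IsCPiGroup π J :=
      cpi_of_coPi hodd (N := N.subgroupOf J) (hNJ ▸ hN) (hU.of_dvd hJi)
    obtain ⟨H, hH⟩ := hC.1
    obtain ⟨Hl, hHl⟩ : IsEPiGroup π L :=
      (cpi_of_coPi hodd (N := N.subgroupOf L)
        (by rw [Nat.card_congr (subgroupOfEquivOfLe hNL).toEquiv]; exact hN)
        (by show PiNat π (N.relIndex L); rw [hNLi]; exact hKb.1)).1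
    set K := Hl.map L.subtype with hK
    have hKh : IsPiHall π K := isPiHall_map_subtype hLi hHl
    have hKN : K ⊔ N = L := by
      refine le_antisymm (sup_le (map_subtype_le _) hNL) ?_
      have h1 : CoPiNat π ((K ⊔ N).relIndex L) :=
        CoPiNat.of_dvd hKh.2 ((relIndex_dvd_of_le_left L le_sup_left).trans
          (relIndex_dvd_index_of_le (map_subtype_le _ : K ≤ L)))
      have h2 : PiNat π ((K ⊔ N).relIndex L) :=
        PiNat.of_dvd hKb.1 (hNLi ▸ relIndex_dvd_of_le_left L le_sup_right)
      exact relIndex_eq_one.1 (eq_one_of_pi_copi h2 h1)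
    have hUh : IsPiHall π (U.subgroupOf J) := by
      refine ⟨?_, ?_⟩
      · rw [Nat.card_congr (subgroupOfEquivOfLe le_sup_left).toEquiv]; exact hU
      · show CoPiNat π (U.relIndex J)
        rw [hJ, relIndex_sup_normal N U]
        exact hN.of_dvd (relIndex_dvd_card _ _)
    have hKJ : IsPiHall π (K.subgroupOf J) := by
      refine ⟨?_, ?_⟩
      · rw [← card_map_of_injective J.subtype_injective, subgroupOf_map_subtype]
        exact PiNat.of_dvd hKh.1 (card_dvd_of_le inf_le_left)
      · show CoPiNat π (K.relIndex J)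
        refine CoPiNat.of_dvd hN ?_
        have h : K.relIndex J ≠ 0 := Subgroup.index_ne_zero_of_finite
        have hle : J ≤ K ⊔ N := hKN.symm ▸ hJL
        have hKJ' : K ⊓ J ⊔ N = J := by
          refine le_antisymm (sup_le inf_le_right le_sup_right) fun x hx => ?_
          obtain ⟨k, hk, m, hm, rfl⟩ := mem_sup_of_normal_right.1 (hle hx)
          refine mem_sup_of_normal_right.2 ⟨k, ⟨hk, ?_⟩, m, hm, rfl⟩
          have := J.mul_mem hx (J.inv_mem (le_sup_right (a := U) hm))
          rwa [mul_inv_cancel_right] at this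
        have e : K.relIndex J = (K ⊓ J).relIndex (K ⊓ J ⊔ N) := by
          rw [hKJ', inf_relIndex_right]
        rw [e, relIndex_sup_normal]
        exact relIndex_dvd_card _ _
    obtain ⟨g, hg⟩ := hJcpi.2 _ _ hKJ hUh
    refine ⟨K.map (MulAut.conj (g : G)).toMonoidHom, isPiHall_conj hKh _, ?_⟩
    have := congrArg (Subgroup.map J.subtype) hg
    rw [map_subgroupOf_eq_of_le le_sup_left, map_subtype_conj, subgroupOf_map_subtype] at this
    rw [this]
    exact map_mono inf_le_left

theorem dominates_of_subsingleton [Subsingleton G] : Dominates π G := fun U _ => by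
  refine ⟨⊤, ⟨fun p hp hd => ?_, fun p hp _ => by rw [index_top]; exact hp.not_dvd_one⟩, le_top⟩
  rw [Nat.card_of_subsingleton (1 : (⊤ : Subgroup G))] at hd
  exact absurd hd hp.not_dvd_one

/-- Hall's theorems for a `π`-separable group. -/
theorem hall_separable (hodd : OddSolvable.{u}) : ∀ (k : ℕ) (G : Type u) [Group G] [Finite G],
    Nat.card G = k → SepChain π G → IsCPiGroup π G ∧ Dominates π G := by
  intro k
  induction k using Nat.strong_induction_on with
  | _ k ih =>
    intro G _ _ hk hsep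
    by_cases hG : Subsingleton G
    · exact ⟨cpi_of_coPiGroup (fun p hp _ => by
        rw [Nat.card_of_subsingleton (1 : G)]; exact hp.not_dvd_one), dominates_of_subsingleton⟩
    obtain ⟨n, H, h0, hl, hm, hn, hi⟩ := id hsep
    have hex : ∃ i : Fin n, H i.castSucc = ⊥ ∧ H i.succ ≠ ⊥ := by
      by_contra hcon
      push Not at hcon
      have hall : ∀ j : Fin (n + 1), H j = ⊥ := fun j => Fin.induction h0 (fun i hi => hcon i hi) j
      exact hG ⟨fun a b => by
        have := hl ▸ hall (Fin.last n)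
        have ha : a ∈ (⊤ : Subgroup G) := mem_top a
        have hb : b ∈ (⊤ : Subgroup G) := mem_top b
        rw [this, mem_bot] at ha hb
        rw [ha, hb]⟩
    obtain ⟨i, hi0, hi1⟩ := hex
    haveI := hn i.succ
    have hcard : PiNat π (Nat.card (H i.succ)) ∨ CoPiNat π (Nat.card (H i.succ)) := by
      rcases hi i with h | h <;> rw [hi0, relIndex_bot_left] at h
      · exact Or.inl h
      · exact Or.inr fun q hq hqπ hqd => h q hq hqd hqπ
    have hlt : Nat.card (G ⧸ H i.succ) < k := by
      rw [← hk, Subgroup.card_eq_card_quotient_mul_card_subgroup (H i.succ)]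
      exact lt_mul_of_one_lt_right Nat.card_pos ((Subgroup.one_lt_card_iff_ne_bot _).2 hi1)
    obtain ⟨hCq, hDq⟩ := ih _ hlt (G ⧸ H i.succ) rfl
      (hsep.map (QuotientGroup.mk' _) (QuotientGroup.mk'_surjective _))
    have hC : IsCPiGroup π G := cpi_extension hodd (H i.succ)
      (hcard.elim (fun h => cpi_of_piGroup h) (fun h => cpi_of_coPiGroup h)) hCq
    exact ⟨hC, dominates_of_normal hodd hcard hC hDq⟩

end CfsgLib.OddGated
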